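import Groth.Agent.Lib.PrimaryDesc5.Regular
import Mathlib.RingTheory.LocalRing.ResidueField.Basic
import Mathlib.LinearAlgebra.DirectSum.Finsupp
import Mathlib.LinearAlgebra.Basis.VectorSpace

/-!
# The action of `K ⊗ R` on `K ⊗ N` for modules of finite length over a local ring `R`
-/

set_option autoImplicit false
set_option maxHeartbeats 400000

universe u

open TensorProduct IsLocalRing

namespace Groth.Agent.PrimaryDesc5

variable {A : Type u} [CommRing A] (K : Type u) [Field K] [Algebra A K]

section Act

variable (R : Type u) [CommRing R] [Algebra A R] (N : Type u) [AddCommGroup N] [Module A N] [Module R N]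
  [IsScalarTower A R N]

/-- The action of `K ⊗ R` on `K ⊗ N`. -/
noncomputable def act : K ⊗[A] R →ₗ[A] K ⊗[A] N →ₗ[A] K ⊗[A] N :=
  TensorProduct.map₂ (LinearMap.mul A K) (Algebra.lsmul A A N : R →ₐ[A] Module.End A N).toLinearMap

theorem act_tmul (a b : K) (r : R) (n : N) : act K R N (a ⊗ₜ[A] r) (b ⊗ₜ[A] n) = (a * b) ⊗ₜ[A] (r • n) := rfl

theorem act_mul (t t' : K ⊗[A] R) (x : K ⊗[A] N) : act K R N (t * t') x = act K R N t (act K R N t' x) := by
  induction x using TensorProduct.induction_on with
  | zero => simp only [map_zero]
  | add u v hu hv => simp only [map_add, hu, hv]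
  | tmul b n =>
    induction t using TensorProduct.induction_on with
    | zero => simp only [zero_mul, map_zero, LinearMap.zero_apply]
    | add u v hu hv => simp only [add_mul, map_add, LinearMap.add_apply, hu, hv]
    | tmul a r =>
      induction t' using TensorProduct.induction_on with
      | zero => simp only [mul_zero, map_zero, LinearMap.zero_apply]
      | add u v hu hv => simp only [mul_add, map_add, LinearMap.add_apply, hu, hv]
      | tmul a' r' => simp only [Algebra.TensorProduct.tmul_mul_tmul, act_tmul, mul_assoc, mul_smul]

theorem act_one (x : K ⊗[A] N) : act K R N 1 x = x := by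
  induction x using TensorProduct.induction_on with
  | zero => simp only [map_zero]
  | add u v hu hv => simp only [map_add, hu, hv]
  | tmul b n => rw [Algebra.TensorProduct.one_def, act_tmul, one_mul, one_smul]

theorem act_natural {N' : Type u} [AddCommGroup N'] [Module A N'] [Module R N'] [IsScalarTower A R N']
    (f : N →ₗ[R] N') (t : K ⊗[A] R) (x : K ⊗[A] N) :
    (f.restrictScalars A).lTensor K (act K R N t x) = act K R N' t ((f.restrictScalars A).lTensor K x) := by
  induction x using TensorProduct.induction_on with
  | zero => simp only [map_zero]
  | add u v hu hv => simp only [map_add, hu, hv]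
  | tmul b n =>
    induction t using TensorProduct.induction_on with
    | zero => simp only [map_zero, LinearMap.zero_apply]
    | add u v hu hv => simp only [map_add, LinearMap.add_apply, hu, hv]
    | tmul a r =>
      simp only [act_tmul, LinearMap.lTensor_tmul, LinearMap.restrictScalars_apply, map_smul]

end Act

/-- An injective map stays injective after tensoring if the maximal ideal kills the modules. -/
theorem lTensor_injective_of_killed (m : Ideal A) [m.IsMaximal] {N' N : Type u} [AddCommGroup N'] [Module A N']
    [AddCommGroup N] [Module A N] (hN : ∀ c ∈ m, ∀ y : N, c • y = 0) (f : N' →ₗ[A] N)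
    (hf : Function.Injective f) : Function.Injective (f.lTensor K) := by
  let k := A ⧸ m
  letI : Field k := Ideal.Quotient.field m
  have hN' : ∀ c ∈ m, ∀ y : N', c • y = 0 := fun c hc y => hf (by rw [map_smul, hN c hc, map_zero])
  have h1 : Module.IsTorsionBySet A N (m : Set A) := fun y c => hN c c.2 y
  have h2 : Module.IsTorsionBySet A N' (m : Set A) := fun y c => hN' c c.2 y
  letI : Module k N := h1.module
  letI : Module k N' := h2.module
  haveI : IsScalarTower A k N := h1.isScalarTower
  haveI : IsScalarTower A k N' := h2.isScalarTower
  let fk : N' →ₗ[k] N := f.extendScalarsOfSurjective Ideal.Quotient.mk_surjective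
  obtain ⟨g, hg⟩ := fk.exists_leftInverse_of_injective (LinearMap.ker_eq_bot.2 hf)
  refine Function.LeftInverse.injective (g := (g.restrictScalars A).lTensor K) fun x => ?_
  rw [← LinearMap.lTensor_comp_apply, show (g.restrictScalars A).comp f = LinearMap.id from
    LinearMap.ext fun y => LinearMap.congr_fun hg y, LinearMap.lTensor_id]
  rfl

section Local

variable (R : Type u) [CommRing R] [IsLocalRing R] [Algebra A R]

/-- Injectivity of the action on modules killed by a power of the maximal ideal. -/
theorem act_injective (m : Ideal A) [m.IsMaximal] (t : K ⊗[A] R)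
    (ht : ∀ d : K ⊗[A] ResidueField R,
      Algebra.TensorProduct.map (AlgHom.id A K) (IsScalarTower.toAlgHom A R (ResidueField R)) t * d = 0 → d = 0)
    (n : ℕ) (N : Type u) [AddCommGroup N] [Module A N] [Module R N] [IsScalarTower A R N]
    (hm : ∀ c ∈ m, ∀ y : N, c • y = 0) (hn : ∀ r ∈ maximalIdeal R ^ n, ∀ y : N, r • y = 0)
    (x : K ⊗[A] N) (hx : act K R N t x = 0) : x = 0 := by
  induction n generalizing N with
  | zero =>
    haveI : Subsingleton N := ⟨fun a b => by
      rw [← one_smul R a, ← one_smul R b, hn 1 (by simp) a, hn 1 (by simp) b]⟩
    exact Subsingleton.elim _ _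
  | succ n ih =>
    -- the residue step
    classical
    have hres : ∀ (V : Type u) [AddCommGroup V] [Module A V] [Module R V] [IsScalarTower A R V],
        (∀ r ∈ maximalIdeal R, ∀ y : V, r • y = 0) → ∀ y : K ⊗[A] V, act K R V t y = 0 → y = 0 := by
      intro V _ _ _ _ hV y hy
      have hVt : Module.IsTorsionBySet R V (maximalIdeal R : Set R) := fun v c => hV c c.2 v
      let κ := ResidueField R
      letI : Module κ V := hVt.module
      haveI : IsScalarTower R κ V := hVt.isScalarTower
      let bas := Module.Basis.ofVectorSpace κ V
      let e : V →ₗ[A] (Module.Basis.ofVectorSpaceIndex κ V →₀ κ) :=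
        (bas.repr.toLinearMap.restrictScalars R).restrictScalars A
      have key : ∀ i, (Finsupp.lapply i ∘ₗ e).lTensor K y = 0 := by
        intro i
        let φ : V →ₗ[R] κ := (Finsupp.lapply i ∘ₗ bas.repr.toLinearMap).restrictScalars R
        have h1 := act_natural K R V φ t y
        rw [hy, map_zero] at h1
        refine ht _ ?_
        rw [show (Finsupp.lapply i ∘ₗ e) = φ.restrictScalars A from rfl]
        have hact : ∀ d : K ⊗[A] κ, act K R κ t d =
            Algebra.TensorProduct.map (AlgHom.id A K) (IsScalarTower.toAlgHom A R κ) t * d := by
          intro d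
          induction d using TensorProduct.induction_on with
          | zero => simp only [map_zero, mul_zero]
          | add u v hu hv => simp only [map_add, mul_add, hu, hv]
          | tmul b w =>
            clear ht hx hy h1 ih
            induction t using TensorProduct.induction_on with
            | zero => simp only [map_zero, LinearMap.zero_apply, zero_mul]
            | add u v hu hv => simp only [map_add, LinearMap.add_apply, add_mul, hu, hv]
            | tmul a r =>
              rw [act_tmul, Algebra.TensorProduct.map_tmul, Algebra.TensorProduct.tmul_mul_tmul]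
              rfl
        rw [← hact]
        exact h1.symm
      have h0 : e.lTensor K y = 0 := by
        refine (TensorProduct.finsuppRight A A K κ _).injective ?_
        ext i
        rw [map_zero, Finsupp.zero_apply, TensorProduct.finsuppRight_apply, ← LinearMap.lTensor_comp_apply]
        exact key i
      let e' : V ≃ₗ[A] (Module.Basis.ofVectorSpaceIndex κ V →₀ κ) :=
        (bas.repr.restrictScalars R).restrictScalars A
      exact (TensorProduct.congr (LinearEquiv.refl A K) e').injective (by rw [map_zero]; exact h0)
    let N' : Submodule R N := maximalIdeal R • ⊤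
    have hq : (N'.mkQ.restrictScalars A).lTensor K x = 0 := by
      refine hres (N ⧸ N') (fun r hr y => ?_) _ ?_
      · obtain ⟨y, rfl⟩ := Submodule.Quotient.mk_surjective _ y
        rw [← Submodule.Quotient.mk_smul, Submodule.Quotient.mk_eq_zero]
        exact Submodule.smul_mem_smul hr trivial
      · rw [← act_natural, hx, map_zero]
    have hex : Function.Exact (N'.subtype.restrictScalars A) (N'.mkQ.restrictScalars A) :=
      LinearMap.exact_subtype_mkQ N'
    obtain ⟨x', rfl⟩ := (lTensor_exact K hex N'.mkQ_surjective x).1 hq
    rw [← act_natural] at hx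
    have hx' : act K R N' t x' = 0 :=
      lTensor_injective_of_killed K m hm _ N'.injective_subtype (hx.trans (map_zero _).symm)
    rw [ih N' (fun c hc y => Subtype.ext (hm c hc y.1)) (fun r hr y => Subtype.ext ?_) x' hx', map_zero]
    show r • (y : N) = 0
    refine Submodule.smul_induction_on y.2 (fun c hc w _ => ?_) fun u v hu hv => by rw [smul_add, hu, hv, add_zero]
    rw [← mul_smul]
    exact hn _ (by rw [pow_succ]; exact Ideal.mul_mem_mul hr hc) _

end Local

end Groth.Agent.PrimaryDesc5
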