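import Groth.Agent.Lib.FlatDesc5.Artin
import Groth.Agent.Lib.PrimaryDesc5.Action
import Mathlib.FieldTheory.Separable

/-!
# Descent of flatness at a prime by one point over each member, for a primary residue extension
-/

set_option autoImplicit false
set_option maxHeartbeats 400000

universe u

open TensorProduct IsLocalRing Groth.Agent.FlatDesc5

namespace Groth.Agent.PrimaryDesc5

/-- Regularity in the tensor product of a primary extension and any extension of the residue field. -/
theorem eq_zero_of_primary {A : Type u} [CommRing A] [IsLocalRing A] (κ K : Type u) [Field κ] [Field K]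
    [Algebra A κ] [Algebra A K] (hκ : maximalIdeal A ≤ RingHom.ker (algebraMap A κ))
    (hK : maximalIdeal A ≤ RingHom.ker (algebraMap A K))
    (hprim : ∀ a : κ, ∀ p : Polynomial A, (p.map (residue A)).Separable → Polynomial.aeval a p = 0 →
      a ∈ Set.range (algebraMap A κ))
    {t : κ ⊗[A] K} (ht : ¬ IsNilpotent t) (d : κ ⊗[A] K) (hd : t * d = 0) : d = 0 := by
  let k := ResidueField A
  letI : Algebra k κ := (Ideal.Quotient.lift _ (algebraMap A κ) fun c hc => hκ hc).toAlgebra
  letI : Algebra k K := (Ideal.Quotient.lift _ (algebraMap A K) fun c hc => hK hc).toAlgebra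
  haveI : IsScalarTower A k κ := IsScalarTower.of_algebraMap_eq fun _ => rfl
  haveI : IsScalarTower A k K := IsScalarTower.of_algebraMap_eq fun _ => rfl
  haveI : TensorProduct.CompatibleSMul A k κ K := ⟨fun c x y => by
    obtain ⟨c, rfl⟩ := residue_surjective (R := A) c
    show (algebraMap A k c • x) ⊗ₜ[A] y = x ⊗ₜ[A] (algebraMap A k c • y)
    rw [algebraMap_smul, algebraMap_smul, TensorProduct.smul_tmul]⟩
  haveI : TensorProduct.CompatibleSMul k A κ K := ⟨fun c x y => by
    rw [← algebraMap_smul k c x, ← algebraMap_smul k c y, TensorProduct.smul_tmul]⟩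
  let e : κ ⊗[A] K ≃ₐ[A] κ ⊗[k] K := (Algebra.TensorProduct.equivOfCompatibleSMul A k A κ K).symm
  refine e.injective ((map_zero e).symm ▸ isRegular_of_primary κ K ?_ (t := e t) ?_ (e d) ?_)
  · intro a ha
    obtain ⟨p, hp⟩ := Polynomial.map_surjective (residue A) residue_surjective (minpoly k a)
    obtain ⟨c, hc⟩ := hprim a p (by rw [hp]; exact ha) (by
      rw [← Polynomial.aeval_map_algebraMap k, show p.map (algebraMap A k) = minpoly k a from hp, minpoly.aeval])
    exact ⟨residue A c, hc⟩
  · rwa [IsNilpotent.map_iff e.injective]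
  · rw [← map_mul, hd, map_zero]

section Main

variable {A : Type u} [CommRing A] [IsArtinianRing A] [IsLocalRing A] {T : Type u} [CommRing T] [Algebra A T]
  [IsNoetherianRing T] {M : Type u} [AddCommGroup M] [Module A M] [Module T M] [IsScalarTower A T M]
  [Module.Finite T M] (q : Ideal T) [q.IsPrime]
  (hprim : ∀ a : q.ResidueField, ∀ p : Polynomial A, (p.map (residue A)).Separable → Polynomial.aeval a p = 0 →
    a ∈ Set.range (algebraMap A q.ResidueField))

include hprim in
/-- The relation vanishes after one member. -/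
theorem map_coeff_eq_zero_primary {B : Type u} [CommRing B] [IsLocalRing B] [Algebra A B] {T₁ : Type u}
    [CommRing T₁] [Algebra T T₁] [Algebra B T₁] [Algebra A T₁] [IsScalarTower A B T₁]
    [IsScalarTower A T T₁] [Algebra.IsPushout A B T T₁] {Q : Ideal T₁} [Q.IsPrime]
    (hQq : Q.comap (algebraMap T T₁) = q) (hQm : Q.comap (algebraMap B T₁) = maximalIdeal B)
    (hflat : Module.Flat B (LocalizedModule Q.primeCompl (T₁ ⊗[T] M)))
    {Tq : Type u} [CommRing Tq] [IsLocalRing Tq] [IsNoetherianRing Tq] [Algebra T Tq]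
    [IsLocalization.AtPrime Tq q] [Algebra A Tq] [IsScalarTower A T Tq] {N : Type u} [AddCommGroup N]
    [Module A N] [Module T N] [Module Tq N] [IsScalarTower A T N] [IsScalarTower A Tq N]
    [IsScalarTower T Tq N] [Module.Finite Tq N] (g : M →ₗ[T] N)
    {κ : Type u} [Fintype κ] [DecidableEq κ] (m : κ → M)
    (hm : ∀ a : κ → A, g (∑ b, a b • m b) ∈
      maximalIdeal A • (⊤ : Submodule A N) → ∀ b, a b ∈ maximalIdeal A)
    (a : κ → A) (ha : ∑ b, a b • m b = 0) :
    (fun b => algebraMap A B (a b)) = 0 := by
  classical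
  let P := T₁ ⊗[T] M
  refine eq_zero_of_flat_family (𝒬 := PUnit.{u+1}) (fun _ => LocalizedModule Q.primeCompl P)
    (fun _ b => LocalizedModule.mkLinearMap Q.primeCompl P ((1 : T₁) ⊗ₜ[T] m b)) _ (fun _ => ?_) ?_
  · have h0 : ∑ b, algebraMap A B (a b) • ((1 : T₁) ⊗ₜ[T] m b) = 0 := by
      rw [← TensorProduct.tmul_zero M (1 : T₁), ← ha, TensorProduct.tmul_sum]
      exact Finset.sum_congr rfl fun b _ => by rw [algebraMap_smul, TensorProduct.tmul_smul]
    rw [← map_zero (LocalizedModule.mkLinearMap Q.primeCompl P), ← h0, map_sum]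
    exact Finset.sum_congr rfl fun b _ => (LinearMap.map_smul_of_tower _ _ _).symm
  intro l hl
  let z : P := ∑ b, l b • ((1 : T₁) ⊗ₜ[T] m b)
  obtain ⟨t, htQ, htz⟩ : ∃ t ∉ Q, t • z ∈ maximalIdeal B • (⊤ : Submodule B P) := by
    refine exists_notMem_smul_mem Q (maximalIdeal B) z ?_
    rw [map_sum]
    simp_rw [LinearMap.map_smul_of_tower]
    exact hl PUnit.unit
  let K := ResidueField B
  haveI : (RingHom.ker (algebraMap A K)).IsPrime := RingHom.ker_isPrime _
  have hK : maximalIdeal A ≤ RingHom.ker (algebraMap A K) :=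
    (eq_maximalIdeal (IsArtinianRing.isMaximal_of_isPrime _)).ge
  -- the finite-length quotient
  obtain ⟨n, hn⟩ := exists_pow_independent (Tq := Tq) (fun b => g (m b))
    (fun a' ha' => hm a' (by
      rw [map_sum]
      simp_rw [LinearMap.map_smul_of_tower]
      exact ha'))
  let Kn : Submodule Tq N := ((maximalIdeal A).map (algebraMap A Tq) ⊔ maximalIdeal Tq ^ n) • ⊤
  let Nn := N ⧸ Kn
  have hmN : ∀ c ∈ maximalIdeal A, ∀ y : Nn, c • y = 0 := by
    intro c hc y
    obtain ⟨y, rfl⟩ := Submodule.Quotient.mk_surjective Kn y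
    rw [← Submodule.Quotient.mk_smul, Submodule.Quotient.mk_eq_zero, ← algebraMap_smul Tq c y]
    exact Submodule.smul_mem_smul (Submodule.mem_sup_left (Ideal.mem_map_of_mem _ hc)) trivial
  have hnN : ∀ r ∈ maximalIdeal Tq ^ n, ∀ y : Nn, r • y = 0 := by
    intro r hr y
    obtain ⟨y, rfl⟩ := Submodule.Quotient.mk_surjective Kn y
    rw [← Submodule.Quotient.mk_smul, Submodule.Quotient.mk_eq_zero]
    exact Submodule.smul_mem_smul (Submodule.mem_sup_right hr) trivial
  -- the maps
  let ξ : T₁ →ₐ[A] K ⊗[A] Tq := Algebra.pushoutDesc T₁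
    ((Algebra.TensorProduct.includeLeft : K →ₐ[A] K ⊗[A] Tq).comp (IsScalarTower.toAlgHom A B K))
    ((Algebra.TensorProduct.includeRight : Tq →ₐ[A] K ⊗[A] Tq).comp (IsScalarTower.toAlgHom A T Tq))
    fun _ _ => mul_comm _ _
  have hξB : ∀ w : B, ξ (algebraMap B T₁ w) = residue B w ⊗ₜ[A] (1 : Tq) :=
    fun w => Algebra.pushoutDesc_left T₁ _ _ _ w
  have hξT : ∀ s : T, ξ (algebraMap T T₁ s) = (1 : K) ⊗ₜ[A] algebraMap T Tq s :=
    fun s => Algebra.pushoutDesc_right T₁ _ _ _ s
  let γ : M → K ⊗[A] Nn := fun x => (1 : K) ⊗ₜ[A] (Submodule.Quotient.mk (g x) : Nn)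
  let η : P →+ K ⊗[A] Nn := TensorProduct.liftAddHom
    { toFun := fun t =>
        { toFun := fun x => act K Tq Nn (ξ t) (γ x)
          map_zero' := by simp only [γ, map_zero, Submodule.Quotient.mk_zero, TensorProduct.tmul_zero]
          map_add' := fun x y => by
            simp only [γ, map_add, Submodule.Quotient.mk_add, TensorProduct.tmul_add] }
      map_zero' := by ext x; simp
      map_add' := fun x y => by ext z; simp }
    fun s t x => by
      show act K Tq Nn (ξ (s • t)) (γ x) = act K Tq Nn (ξ t) (γ (s • x))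
      rw [Algebra.smul_def, map_mul, mul_comm, act_mul, hξT]
      congr 1
      show (1 * 1 : K) ⊗ₜ[A] (algebraMap T Tq s • (Submodule.Quotient.mk (g x) : Nn)) = _
      rw [one_mul, ← Submodule.Quotient.mk_smul, algebraMap_smul, ← map_smul]
  have hη : ∀ (t : T₁) (x : M), η (t ⊗ₜ[T] x) = act K Tq Nn (ξ t) (γ x) := fun _ _ => rfl
  have hηs : ∀ (t : T₁) (p : P), η (t • p) = act K Tq Nn (ξ t) (η p) := by
    intro t p
    induction p using TensorProduct.induction_on with
    | zero => rw [smul_zero, map_zero, map_zero]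
    | add u v hu hv => rw [smul_add, map_add, map_add, map_add, hu, hv]
    | tmul t' x => rw [TensorProduct.smul_tmul', hη, hη, smul_eq_mul, map_mul, act_mul]
  have hηB : ∀ (w : B) (p : P), η (w • p) = residue B w • η p := by
    intro w p
    rw [← algebraMap_smul T₁ w p, hηs, hξB]
    induction η p using TensorProduct.induction_on with
    | zero => rw [map_zero, smul_zero]
    | add u v hu hv => rw [map_add, smul_add, hu, hv]
    | tmul c y => rw [act_tmul, one_smul, TensorProduct.smul_tmul']; rfl
  have hη0 : ∀ p ∈ maximalIdeal B • (⊤ : Submodule B P), η p = 0 := by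
    intro p hp
    refine Submodule.smul_induction_on hp (fun w hw y _ => ?_) fun u v hu hv => by rw [map_add, hu, hv, add_zero]
    rw [hηB, (residue_eq_zero_iff w).2 hw, zero_smul]
  -- regularity of the image of `t`
  have hκ : maximalIdeal A ≤ RingHom.ker (algebraMap A (ResidueField Tq)) := by
    haveI : (RingHom.ker (algebraMap A (ResidueField Tq))).IsPrime := RingHom.ker_isPrime _
    exact (eq_maximalIdeal (IsArtinianRing.isMaximal_of_isPrime _)).ge
  let π : Tq →ₐ[A] ResidueField Tq := IsScalarTower.toAlgHom A Tq (ResidueField Tq)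
  let c : K ⊗[A] Tq →ₐ[A] K ⊗[A] ResidueField Tq := Algebra.TensorProduct.map (AlgHom.id A K) π
  have hnil : ¬ IsNilpotent (c (ξ t)) := by
    let Ω := Q.ResidueField
    have hker : ∀ s : T, algebraMap T Ω s = 0 ↔ s ∈ q := by
      intro s
      rw [IsScalarTower.algebraMap_apply T T₁ Ω, Ideal.algebraMap_residueField_eq_zero, ← hQq]
      rfl
    have hu : ∀ s : q.primeCompl, IsUnit (IsScalarTower.toAlgHom A T Ω (s : T)) := fun s =>
      isUnit_iff_ne_zero.2 fun h => s.2 ((hker _).1 h)
    let ρ : Tq →ₐ[A] Ω := IsLocalization.liftAlgHom (M := q.primeCompl) (f := IsScalarTower.toAlgHom A T Ω) hu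
    have hρ : ∀ x ∈ maximalIdeal Tq, ρ x = 0 := by
      intro x hx
      rw [← IsLocalization.AtPrime.map_eq_maximalIdeal q Tq] at hx
      have hle : q.map (algebraMap T Tq) ≤ RingHom.ker ρ := Ideal.map_le_iff_le_comap.2 fun s hs => by
        show ρ (algebraMap T Tq s) = 0
        rw [IsLocalization.liftAlgHom_apply, IsLocalization.lift_eq]
        exact (hker s).2 hs
      exact hle hx
    have hB0 : ∀ w ∈ maximalIdeal B, IsScalarTower.toAlgHom A B Ω w = 0 := fun w hw => by
      show algebraMap B Ω w = 0
      rw [IsScalarTower.algebraMap_apply B T₁ Ω, Ideal.algebraMap_residueField_eq_zero]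
      rw [← hQm] at hw
      exact hw
    let χ : K ⊗[A] ResidueField Tq →ₐ[A] Ω := Algebra.TensorProduct.lift
      (Ideal.Quotient.liftₐ (maximalIdeal B) (IsScalarTower.toAlgHom A B Ω) hB0)
      (Ideal.Quotient.liftₐ (maximalIdeal Tq) ρ hρ) fun _ _ => mul_comm _ _
    have hcomp : (χ.comp c).comp ξ = IsScalarTower.toAlgHom A T₁ Ω := by
      apply Algebra.IsPushout.algHom_ext (R := A) (S := B) (R' := T)
      · ext s
        show χ (c (ξ (algebraMap T T₁ s))) = algebraMap T₁ Ω (algebraMap T T₁ s)
        rw [hξT]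
        show χ ((1 : K) ⊗ₜ[A] π (algebraMap T Tq s)) = _
        rw [Algebra.TensorProduct.lift_tmul, map_one, one_mul]
        show ρ (algebraMap T Tq s) = _
        rw [IsLocalization.liftAlgHom_apply, IsLocalization.lift_eq]
        exact IsScalarTower.algebraMap_apply T T₁ Ω s
      · ext w
        show χ (c (ξ (algebraMap B T₁ w))) = algebraMap T₁ Ω (algebraMap B T₁ w)
        rw [hξB]
        show algebraMap B Ω w * ρ 1 = _
        rw [map_one, mul_one, IsScalarTower.algebraMap_apply B T₁ Ω]
    intro h
    have h1 := (h.map χ).eq_zero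
    rw [show χ (c (ξ t)) = algebraMap T₁ Ω t from AlgHom.congr_fun hcomp t,
      Ideal.algebraMap_residueField_eq_zero] at h1
    exact htQ h1
  have hreg : ∀ d : K ⊗[A] ResidueField Tq, c (ξ t) * d = 0 → d = 0 := by
    intro d hd
    let e := IsLocalization.algEquiv q.primeCompl Tq (Localization.AtPrime q)
    have hprim' : ∀ a : ResidueField Tq, ∀ p : Polynomial A, (p.map (residue A)).Separable →
        Polynomial.aeval a p = 0 → a ∈ Set.range (algebraMap A (ResidueField Tq)) := by
      intro a p hp hpa
      let e' : ResidueField Tq ≃+* q.ResidueField := IsLocalRing.ResidueField.mapEquiv e.toRingEquiv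
      have hcomm : e'.toRingHom.comp (algebraMap A (ResidueField Tq)) = algebraMap A q.ResidueField := by
        ext r
        rw [RingHom.comp_apply, IsScalarTower.algebraMap_apply A Tq (ResidueField Tq),
          IsScalarTower.algebraMap_apply A (Localization.AtPrime q) q.ResidueField,
          IsScalarTower.algebraMap_apply A T Tq, IsScalarTower.algebraMap_apply A T (Localization.AtPrime q)]
        show residue _ (e (algebraMap T Tq _)) = _
        rw [e.commutes]
        rfl
      obtain ⟨r, hr⟩ := hprim (e' a) p hp (by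
        rw [Polynomial.aeval_def, ← hcomm]
        refine (Polynomial.hom_eval₂ p (algebraMap A (ResidueField Tq)) e'.toRingHom a).symm.trans ?_
        rw [← Polynomial.aeval_def, hpa, map_zero])
      exact ⟨r, e'.injective (by rw [← hr, ← hcomm]; rfl)⟩
    let σ := Algebra.TensorProduct.comm A K (ResidueField Tq)
    refine σ.injective ((map_zero σ).symm ▸ eq_zero_of_primary (ResidueField Tq) K hκ hK hprim' (t := σ (c (ξ t)))
      ?_ (σ d) (by rw [← map_mul, hd, map_zero]))
    rwa [IsNilpotent.map_iff σ.injective]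
  have hz : η z = 0 := act_injective K Tq (maximalIdeal A) (ξ t) hreg n Nn hmN hnN (η z) (by
    rw [← hηs]; exact hη0 _ htz)
  -- read off the coefficients
  have htor : Module.IsTorsionBySet A Nn (maximalIdeal A : Set A) := fun y c => hmN c c.2 y
  let k := ResidueField A
  letI : Module k Nn := htor.module
  haveI : IsScalarTower A k Nn := htor.isScalarTower
  let Φ : (κ → k) →ₗ[k] Nn := Fintype.linearCombination k fun b => Submodule.Quotient.mk (g (m b))
  have hΦ : LinearMap.ker Φ = ⊥ := by
    rw [LinearMap.ker_eq_bot']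
    intro w hw
    choose a' ha' using fun b => residue_surjective (w b)
    have h0 : ∑ b, a' b • g (m b) ∈ Kn := by
      rw [← Submodule.Quotient.mk_eq_zero Kn, ← hw, Fintype.linearCombination_apply,
        ← Submodule.mkQ_apply, map_sum]
      refine Finset.sum_congr rfl fun b _ => ?_
      rw [← ha' b, LinearMap.map_smul_of_tower]
      exact (algebraMap_smul k (a' b) _).symm
    funext b
    rw [← ha' b]
    exact (residue_eq_zero_iff _).2 (hn a' h0 b)
  obtain ⟨L, hL⟩ := Φ.exists_leftInverse_of_injective hΦ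
  intro b₀
  let ιk : k →ₗ[A] K :=
    { toFun := Ideal.Quotient.lift _ (algebraMap A K) fun c hc => hK hc
      map_add' := map_add _
      map_smul' := fun c w => by
        obtain ⟨w, rfl⟩ := residue_surjective w
        show algebraMap A K (c * w) = c • algebraMap A K w
        rw [map_mul, Algebra.smul_def] }
  let Λ : Nn →ₗ[A] K := ιk ∘ₗ ((LinearMap.proj b₀).comp L).restrictScalars A
  let Ψ : K ⊗[A] Nn →ₗ[K] K := TensorProduct.AlgebraTensorModule.lift
    (LinearMap.toSpanSingleton K (Nn →ₗ[A] K) Λ)
  have hΛ : ∀ b, Ψ (η (l b • ((1 : T₁) ⊗ₜ[T] m b))) = if b₀ = b then residue B (l b) else 0 := by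
    intro b
    rw [hηB, map_smul, hη, map_one, act_one]
    have h2 : Φ (Pi.single b 1) = Submodule.Quotient.mk (g (m b)) := by
      rw [Fintype.linearCombination_apply_single, one_smul]
    show residue B (l b) • ((1 : K) • ιk (L (Submodule.Quotient.mk (g (m b))) b₀)) = _
    rw [← h2, show L (Φ (Pi.single b 1)) = Pi.single b 1 from LinearMap.congr_fun hL _, Pi.single_apply,
      one_smul, smul_eq_mul]
    split_ifs
    · rw [show ιk 1 = 1 from map_one (Ideal.Quotient.lift _ (algebraMap A K) fun c hc => hK hc), mul_one]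
    · rw [map_zero, mul_zero]
  have := congrArg Ψ hz
  rw [map_sum, map_sum, map_zero, Finset.sum_congr rfl fun b _ => hΛ b, Finset.sum_ite_eq] at this
  rw [if_pos (Finset.mem_univ _)] at this
  exact (residue_eq_zero_iff _).1 this

variable {ι : Type u} (A' : ι → Type u) [∀ i, CommRing (A' i)] [∀ i, IsLocalRing (A' i)]
  [∀ i, Algebra A (A' i)] (T' : ι → Type u) [∀ i, CommRing (T' i)] [∀ i, Algebra T (T' i)]
  [∀ i, Algebra (A' i) (T' i)] [∀ i, Algebra A (T' i)] [∀ i, IsScalarTower A (A' i) (T' i)]
  [∀ i, IsScalarTower A T (T' i)] [∀ i, Algebra.IsPushout A (A' i) T (T' i)]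

include hprim in
/-- Descent of flatness at a prime with primary residue extension. -/
theorem flat_localized_of_family_primary (hsep : ∀ a : A, (∀ i, algebraMap A (A' i) a = 0) → a = 0)
    (Q : ∀ i, Ideal (T' i)) [∀ i, (Q i).IsPrime] (hQq : ∀ i, (Q i).comap (algebraMap T (T' i)) = q)
    (hQm : ∀ i, (Q i).comap (algebraMap (A' i) (T' i)) = maximalIdeal (A' i))
    (hflat : ∀ i, Module.Flat (A' i) (LocalizedModule (Q i).primeCompl (T' i ⊗[T] M))) :
    Module.Flat A (LocalizedModule q.primeCompl M) := by
  classical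
  let N := LocalizedModule q.primeCompl M
  let mA : Submodule A N := maximalIdeal A • ⊤
  have htor : Module.IsTorsionBySet A (N ⧸ mA) (maximalIdeal A : Set A) := fun y c => by
    obtain ⟨y, rfl⟩ := Submodule.Quotient.mk_surjective mA y
    rw [← Submodule.Quotient.mk_smul, Submodule.Quotient.mk_eq_zero]
    exact Submodule.smul_mem_smul c.2 trivial
  let k := ResidueField A
  letI : Module k (N ⧸ mA) := htor.module
  haveI : IsScalarTower A k (N ⧸ mA) := htor.isScalarTower
  let bas := Module.Basis.ofVectorSpace k (N ⧸ mA)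
  choose e he using fun b => Submodule.Quotient.mk_surjective mA (bas b)
  let E : ((Module.Basis.ofVectorSpaceIndex k (N ⧸ mA)) →₀ A) →ₗ[A] N := Finsupp.linearCombination A e
  have hsurj : Function.Surjective E := by
    rw [← LinearMap.range_eq_top, eq_top_iff]
    have h1 : (⊤ : Submodule A N) ≤ LinearMap.range E ⊔ mA := by
      intro y _
      have h0 := bas.linearCombination_repr (Submodule.Quotient.mk y)
      choose g hg using fun b => residue_surjective (bas.repr (Submodule.Quotient.mk y) b)
      let f : (Module.Basis.ofVectorSpaceIndex k (N ⧸ mA)) →₀ A :=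
        Finsupp.onFinset (bas.repr (Submodule.Quotient.mk y)).support
          (fun b => if b ∈ (bas.repr (Submodule.Quotient.mk y)).support then g b else 0) fun b hb => by
            by_contra hb'; exact hb (if_neg hb')
      have hdiff : y - E f ∈ mA := by
        rw [← Submodule.Quotient.eq, show E f = ∑ b ∈ (bas.repr (Submodule.Quotient.mk y)).support, f b • e b from
          Finsupp.linearCombination_apply_of_mem_supported A
            (Finsupp.mem_supported' A f |>.2 fun b hb => if_neg hb)]
        show _ = mA.mkQ _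
        rw [map_sum]
        refine h0.symm.trans ?_
        rw [Finsupp.linearCombination_apply, Finsupp.sum]
        refine Finset.sum_congr rfl fun b hb => ?_
        rw [map_smul, Submodule.mkQ_apply, he, ← hg b, Finsupp.onFinset_apply, if_pos hb]
        rfl
      have := add_mem (Submodule.mem_sup_left ⟨f, rfl⟩ : E f ∈ LinearMap.range E ⊔ mA) (Submodule.mem_sup_right hdiff)
      rwa [add_sub_cancel] at this
    obtain ⟨n, hn⟩ := IsArtinianRing.isNilpotent_jacobson_bot (R := A)
    have h2 : ∀ j : ℕ, (⊤ : Submodule A N) ≤ LinearMap.range E ⊔ maximalIdeal A ^ j • ⊤ := by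
      intro j
      induction j with
      | zero => simp
      | succ j ih =>
        refine h1.trans (sup_le le_sup_left ?_)
        refine (Submodule.smul_mono le_rfl ih).trans ?_
        rw [Submodule.smul_sup, pow_succ', Submodule.mul_smul]
        exact sup_le (le_sup_of_le_left Submodule.smul_le_right) le_sup_right
    have h3 := h2 n
    rw [jacobson_eq_maximalIdeal ⊥ bot_ne_top] at hn
    rw [hn] at h3
    simpa using h3
  have hinj : Function.Injective E := by
    rw [injective_iff_map_eq_zero]
    intro f hf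
    let κ := {b // b ∈ f.support}
    obtain ⟨⟨s, hs⟩, hsint⟩ := IsLocalizedModule.exist_integer_multiples q.primeCompl
      (LocalizedModule.mkLinearMap q.primeCompl M) f.support e
    choose m₀ hm₀ using fun b : κ => hsint b.1 b.2
    obtain ⟨u, hu⟩ := IsLocalization.map_units (Localization.AtPrime q) (M := q.primeCompl) ⟨s, hs⟩
    have hmk : ∀ a : κ → A, LocalizedModule.mkLinearMap q.primeCompl M (∑ b, a b • m₀ b) =
        s • ∑ b : κ, a b • e b.1 := by
      intro a
      rw [map_sum, Finset.smul_sum]
      refine Finset.sum_congr rfl fun b _ => ?_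
      rw [LinearMap.map_smul_of_tower, hm₀ b, smul_comm]
    have hsum : ∑ b : κ, f b.1 • e b.1 = 0 := by
      rw [← hf, Finsupp.linearCombination_apply, Finsupp.sum, ← Finset.sum_attach f.support]
      rfl
    obtain ⟨⟨s', hs'⟩, h0⟩ := (IsLocalizedModule.eq_zero_iff q.primeCompl
      (LocalizedModule.mkLinearMap q.primeCompl M)).1 (show LocalizedModule.mkLinearMap q.primeCompl M
        (∑ b, f b.1 • m₀ b) = 0 by rw [hmk, hsum, smul_zero])
    obtain ⟨u', hu'⟩ := IsLocalization.map_units (Localization.AtPrime q) (M := q.primeCompl) ⟨s', hs'⟩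
    have hind : ∀ a : κ → A, LocalizedModule.mkLinearMap q.primeCompl M (∑ b, a b • (s' • m₀ b)) ∈ mA →
        ∀ b, a b ∈ maximalIdeal A := by
      intro a h1 b₀
      have h2 : ∑ b : κ, a b • e b.1 ∈ mA := by
        have h3 : ∀ (w : Localization.AtPrime q) (y : N), y ∈ mA → w • y ∈ mA := fun w y hy => by
          refine Submodule.smul_induction_on hy (fun c hc v _ => ?_) fun v v' hv hv' => by
            rw [smul_add]; exact add_mem hv hv'
          rw [smul_comm]
          exact Submodule.smul_mem_smul hc trivial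
        have h4 : LocalizedModule.mkLinearMap q.primeCompl M (∑ b, a b • (s' • m₀ b)) =
            algebraMap T (Localization.AtPrime q) (s' * s) • ∑ b : κ, a b • e b.1 := by
          rw [show ∑ b, a b • (s' • m₀ b) = s' • ∑ b, a b • m₀ b by
            rw [Finset.smul_sum]; exact Finset.sum_congr rfl fun b _ => smul_comm _ _ _,
            map_smul, hmk, ← mul_smul, algebraMap_smul]
        rw [h4] at h1
        have h5 := h3 ((↑u'⁻¹ : Localization.AtPrime q) * ↑u⁻¹) _ h1
        rw [← mul_smul, map_mul, ← hu, ← hu', show ((↑u'⁻¹ : Localization.AtPrime q) * ↑u⁻¹) * (↑u' * ↑u) = 1 by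
          rw [mul_comm (↑u' : Localization.AtPrime q), mul_assoc, Units.inv_mul_cancel_left, Units.inv_mul], one_smul] at h5
        exact h5
      have h6 : ∑ b : κ, residue A (a b) • bas b.1 = 0 := by
        rw [← Submodule.Quotient.mk_eq_zero mA, ← Submodule.mkQ_apply, map_sum] at h2
        rw [← h2]
        exact Finset.sum_congr rfl fun b _ => by rw [map_smul, Submodule.mkQ_apply, he]; rfl
      exact (residue_eq_zero_iff _).1 (linearIndependent_iff'.1
        (bas.linearIndependent.comp (fun b : κ => b.1) Subtype.val_injective) Finset.univ _ h6 b₀ (Finset.mem_univ _))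
    have hrel : ∑ b, f b.1 • (s' • m₀ b) = 0 := by
      rw [← show s' • ∑ b, f b.1 • m₀ b = ∑ b, f b.1 • (s' • m₀ b) by
        rw [Finset.smul_sum]; exact Finset.sum_congr rfl fun b _ => (smul_comm _ _ _).symm]
      exact h0
    ext b
    by_cases hb : b ∈ f.support
    · exact hsep _ fun i => congrFun (map_coeff_eq_zero_primary q hprim (B := A' i) (T₁ := T' i) (Q := Q i) (hQq i) (hQm i) (hflat i) (Tq := Localization.AtPrime q) (LocalizedModule.mkLinearMap q.primeCompl M) (fun b => s' • m₀ b) hind _ hrel) ⟨b, hb⟩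
    · exact Finsupp.notMem_support_iff.1 hb
  exact Module.Flat.of_linearEquiv (LinearEquiv.ofBijective E ⟨hinj, hsurj⟩).symm

end Main

end Groth.Agent.PrimaryDesc5
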