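import Groth.Agent.Lib.GeomIrr18.Prim
import Groth.Agent.Lib.GeomIrr18.Bridge
import Mathlib.RingTheory.TensorProduct.MvPolynomial
import Mathlib.RingTheory.AlgebraicIndependent.Adjoin
import Mathlib.RingTheory.AlgebraicIndependent.TranscendenceBasis
import Mathlib.RingTheory.Flat.Basic
import Mathlib.RingTheory.Ideal.GoingUp

/-!
# The tensor product of two field extensions with irreducible spectrum has no embedded primes
-/

set_option autoImplicit false
set_option maxHeartbeats 400000

universe u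

open TensorProduct

namespace Groth.Agent.PrimaryDesc5

variable {k : Type u} [Field k]

/-- A fraction field keeps the property "domain after tensoring". -/
theorem isDomain_tensor_fractionRing (P F K : Type u) [CommRing P] [IsDomain P] [Field F] [Field K] [Algebra k P]
    [Algebra k F] [Algebra k K] [Algebra P F] [IsScalarTower k P F] [IsFractionRing P F] [IsDomain (P ⊗[k] K)] :
    IsDomain (F ⊗[k] K) := by
  let g : P ⊗[k] K →ₐ[k] F ⊗[k] K :=
    Algebra.TensorProduct.map (IsScalarTower.toAlgHom k P F) (AlgHom.id k K)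
  have hg : Function.Injective g :=
    Module.Flat.rTensor_preserves_injective_linearMap (M := K) (IsScalarTower.toAlgHom k P F).toLinearMap
      (IsFractionRing.injective P F)
  have hclear : ∀ z : F ⊗[k] K, ∃ s : P, algebraMap P F s ≠ 0 ∧ ∃ w, g w = algebraMap P F s ⊗ₜ[k] (1 : K) * z := by
    intro z
    induction z using TensorProduct.induction_on with
    | zero => exact ⟨1, by simp, 0, by simp⟩
    | tmul a b =>
      obtain ⟨⟨p, s⟩, hs⟩ := IsLocalization.surj (nonZeroDivisors P) a
      refine ⟨s, IsFractionRing.to_map_ne_zero_of_mem_nonZeroDivisors s.2, p ⊗ₜ b, ?_⟩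
      show algebraMap P F p ⊗ₜ[k] b = _
      rw [Algebra.TensorProduct.tmul_mul_tmul, one_mul, mul_comm, hs]
    | add z z' hz hz' =>
      obtain ⟨s, hs, w, hw⟩ := hz
      obtain ⟨s', hs', w', hw'⟩ := hz'
      refine ⟨s * s', by rw [map_mul]; exact mul_ne_zero hs hs',
        s' ⊗ₜ[k] (1 : K) * w + s ⊗ₜ[k] (1 : K) * w', ?_⟩
      have e : ∀ r : P, g (r ⊗ₜ[k] (1 : K)) = algebraMap P F r ⊗ₜ[k] (1 : K) := fun r => rfl
      have e2 : algebraMap P F (s * s') ⊗ₜ[k] (1 : K) =
          algebraMap P F s ⊗ₜ[k] (1 : K) * algebraMap P F s' ⊗ₜ[k] (1 : K) := by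
        rw [Algebra.TensorProduct.tmul_mul_tmul, map_mul, one_mul]
      rw [map_add, map_mul, map_mul, e, e, hw, hw', e2]
      ring
  have hu : ∀ s : P, algebraMap P F s ≠ 0 → IsUnit (algebraMap P F s ⊗ₜ[k] (1 : K)) := fun s hs =>
    ((isUnit_iff_ne_zero.2 hs).map (Algebra.TensorProduct.includeLeft : F →ₐ[k] F ⊗[k] K))
  haveI : Nontrivial (F ⊗[k] K) := (hg.nontrivial)
  haveI : NoZeroDivisors (F ⊗[k] K) := ⟨fun {x y} hxy => by
    obtain ⟨s, hs, w, hw⟩ := hclear x
    obtain ⟨s', hs', w', hw'⟩ := hclear y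
    have h0 : w * w' = 0 := hg (by
      rw [map_mul, hw, hw', map_zero, mul_mul_mul_comm, hxy, mul_zero])
    rcases mul_eq_zero.1 h0 with h | h
    · refine Or.inl ((hu s hs).mul_right_eq_zero.1 ?_)
      rw [← hw, h, map_zero]
    · refine Or.inr ((hu s' hs').mul_right_eq_zero.1 ?_)
      rw [← hw', h, map_zero]⟩
  exact NoZeroDivisors.to_isDomain _

/-- The case of an algebraic extension of a field which stays a domain after tensoring. -/
theorem isRegular_aux (F κ K : Type u) [Field F] [Field κ] [Field K] [Algebra k F] [Algebra F κ] [Algebra k κ]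
    [IsScalarTower k F κ] [Algebra.IsIntegral F κ] [Algebra k K] [IsDomain (F ⊗[k] K)]
    [IrreducibleSpace (PrimeSpectrum (κ ⊗[k] K))] {t : κ ⊗[k] K} (ht : ¬ IsNilpotent t) (d : κ ⊗[k] K)
    (hd : t * d = 0) : d = 0 := by
  let L := F ⊗[k] K
  let Ω := FractionRing L
  let c : κ ⊗[F] L ≃ₐ[F] κ ⊗[k] K := (Algebra.TensorProduct.cancelBaseChange k F F κ K)
  let j : κ ⊗[F] L →ₐ[F] κ ⊗[F] Ω :=
    Algebra.TensorProduct.map (AlgHom.id F κ) (IsScalarTower.toAlgHom F L Ω)
  have hj : Function.Injective j :=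
    Module.Flat.lTensor_preserves_injective_linearMap (M := κ) (IsScalarTower.toAlgHom F L Ω).toLinearMap
      (IsFractionRing.injective L Ω)
  obtain ⟨t, rfl⟩ := c.surjective t
  obtain ⟨d, rfl⟩ := c.surjective d
  rw [← map_mul, map_eq_zero_iff _ c.injective] at hd
  rw [IsNilpotent.map_iff c.injective] at ht
  rw [map_eq_zero_iff _ c.injective]
  haveI hirr : IrreducibleSpace (PrimeSpectrum (κ ⊗[F] L)) :=
    (PrimeSpectrum.homeomorphOfRingEquiv c.toRingEquiv).irreducibleSpace_iff.2 inferInstance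
  haveI := (PrimeSpectrum.irreducibleSpace_iff_isPrime_nilradical (R := κ ⊗[F] L)).1 hirr
  refine hj ?_
  rw [map_zero]
  refine (IsUnit.mul_right_eq_zero ?_).1 (show j t * j d = 0 by rw [← map_mul, hd, map_zero])
  by_contra hnu
  obtain ⟨M, hM, htM⟩ := exists_max_ideal_of_mem_nonunits hnu
  haveI := hM
  -- both rings are integral over the right factor
  letI : Algebra L (κ ⊗[F] L) := Algebra.TensorProduct.rightAlgebra
  letI : Algebra Ω (κ ⊗[F] Ω) := Algebra.TensorProduct.rightAlgebra
  haveI : Algebra.IsIntegral L (κ ⊗[F] L) := ⟨fun z => by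
    refine TensorProduct.induction_on z isIntegral_zero (fun a b => ?_) fun x y hx hy => hx.add hy
    have h1 : IsIntegral L (a ⊗ₜ[F] (1 : L)) := by
      obtain ⟨p, hp, hev⟩ := (Algebra.IsIntegral.isIntegral (R := F) a)
      refine ⟨p.map (algebraMap F L), hp.map _, ?_⟩
      rw [Polynomial.eval₂_map]
      have e : (algebraMap L (κ ⊗[F] L)).comp (algebraMap F L) =
          (Algebra.TensorProduct.includeLeft : κ →ₐ[F] κ ⊗[F] L).toRingHom.comp (algebraMap F κ) := by
        ext r
        show (1 : κ) ⊗ₜ[F] algebraMap F L r = algebraMap F κ r ⊗ₜ[F] (1 : L)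
        rw [Algebra.algebraMap_eq_smul_one, Algebra.algebraMap_eq_smul_one, TensorProduct.smul_tmul]
      rw [e]
      refine (Polynomial.hom_eval₂ p (algebraMap F κ)
        (Algebra.TensorProduct.includeLeft : κ →ₐ[F] κ ⊗[F] L).toRingHom a).symm.trans ?_
      rw [hev, map_zero]
    have h2 : IsIntegral L ((1 : κ) ⊗ₜ[F] b) := isIntegral_algebraMap
    have h3 := h1.mul h2
    rwa [Algebra.TensorProduct.tmul_mul_tmul, mul_one, one_mul] at h3⟩
  let Q := M.comap j
  haveI : Q.IsPrime := hM.isPrime.comap j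
  have hQ : Q.comap (algebraMap L (κ ⊗[F] L)) = ⊥ := by
    rw [eq_bot_iff]
    intro l hl
    by_contra hl0
    have h1 : IsUnit (algebraMap L Ω l) :=
      IsLocalization.map_units Ω (⟨l, mem_nonZeroDivisors_of_ne_zero hl0⟩ : nonZeroDivisors L)
    exact hM.ne_top (Ideal.eq_top_of_isUnit_mem M (show (1 : κ) ⊗ₜ[F] algebraMap L Ω l ∈ M from hl)
      (h1.map (Algebra.TensorProduct.includeRight : Ω →ₐ[F] κ ⊗[F] Ω)))
  have hle : nilradical (κ ⊗[F] L) ≤ Q := nilradical_le_prime Q
  have heq : Q = nilradical (κ ⊗[F] L) := by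
    refine le_antisymm ?_ hle
    by_contra hnle
    obtain ⟨z, hzQ, hzn⟩ := SetLike.not_le_iff_exists.1 hnle
    have hlt := Ideal.comap_lt_comap_of_integral_mem_sdiff (R := L) hle ⟨hzQ, hzn⟩ (Algebra.IsIntegral.isIntegral z)
    exact not_lt_bot (hQ ▸ hlt)
  exact ht (mem_nilradical.1 (heq.le htM))

open IntermediateField in
open scoped IntermediateField.algebraAdjoinAdjoin in
/-- In a tensor product of fields with irreducible spectrum the non-nilpotent elements are regular. -/
theorem isRegular_of_not_isNilpotent (κ K : Type u) [Field κ] [Field K] [Algebra k κ] [Algebra k K]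
    [IrreducibleSpace (PrimeSpectrum (κ ⊗[k] K))] {t : κ ⊗[k] K} (ht : ¬ IsNilpotent t) (d : κ ⊗[k] K)
    (hd : t * d = 0) : d = 0 := by
  obtain ⟨s, hs⟩ := exists_isTranscendenceBasis k κ
  let P := Algebra.adjoin k (Set.range (Subtype.val : s → κ))
  let F := IntermediateField.adjoin k (Set.range (Subtype.val : s → κ))
  haveI : Algebra.IsAlgebraic F κ := hs.isAlgebraic_field
  haveI : Algebra.IsIntegral F κ := Algebra.IsAlgebraic.isIntegral
  haveI : IsDomain (P ⊗[k] K) := by
    let e : P ⊗[k] K ≃ₐ[k] MvPolynomial s K :=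
      (Algebra.TensorProduct.congr hs.1.aevalEquiv.symm AlgEquiv.refl).trans
        ((Algebra.TensorProduct.comm k (MvPolynomial s k) K).trans
          ((MvPolynomial.algebraTensorAlgEquiv k K).restrictScalars k))
    exact e.toMulEquiv.isDomain
  haveI : IsDomain (F ⊗[k] K) := isDomain_tensor_fractionRing P F K
  exact isRegular_aux F κ K ht d hd

/-- The primary form: the base is separably closed in the first factor. -/
theorem isRegular_of_primary (κ K : Type u) [Field κ] [Field K] [Algebra k κ] [Algebra k K]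
    (h : ∀ a : κ, IsSeparable k a → a ∈ Set.range (algebraMap k κ)) {t : κ ⊗[k] K} (ht : ¬ IsNilpotent t)
    (d : κ ⊗[k] K) (hd : t * d = 0) : d = 0 := by
  haveI := (GeomIrr.geometricallyIrreducible_iff_tensor k κ).1 (GeomIrr.geometricallyIrreducible_of_separable h) K
  haveI : IrreducibleSpace (PrimeSpectrum (κ ⊗[k] K)) :=
    (PrimeSpectrum.homeomorphOfRingEquiv (Algebra.TensorProduct.comm k K κ).toRingEquiv).irreducibleSpace_iff.1
      inferInstance
  exact isRegular_of_not_isNilpotent κ K ht d hd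

end Groth.Agent.PrimaryDesc5
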